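import Groth.Agent.ZarPairLib.Transfer
import Groth.Agent.QCohLib.Push
import Groth.Agent.QCohLib.AffineFinite
import Groth.Agent.CurvLib.EulerTensor
import Groth.Agent.NormDescLib.Relative

/-!
# Isomorphisms of coherent modules on `U ⊆ Spec R` descend along Zariski pairs
-/

set_option autoImplicit false
universe u

open CategoryTheory AlgebraicGeometry TopologicalSpace Opposite TensorProduct

noncomputable section

namespace ZarPairLib

variable {R : CommRingCat.{u}}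

theorem exists_finset [IsNoetherianRing R] (U : (Spec R).Opens) {J : Ideal R}
    (hU : ∀ p : PrimeSpectrum R, ¬ J ≤ p.asIdeal → p ∈ U) :
    ∃ T : Finset R, U = ⨆ f : T, D (f : R) ∧ J ≤ (Ideal.span (T : Set R)).radical := by
  classical
  let US : Set (PrimeSpectrum R) := U.carrier
  let I := PrimeSpectrum.vanishingIdeal USᶜ
  obtain ⟨T, hT⟩ := (IsNoetherian.noetherian I : I.FG)
  have hz : PrimeSpectrum.zeroLocus (T : Set R) = USᶜ := by
    rw [← PrimeSpectrum.zeroLocus_span, show Ideal.span (T : Set R) = I from hT,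
      PrimeSpectrum.zeroLocus_vanishingIdeal_eq_closure, (show IsOpen US from U.2).isClosed_compl.closure_eq]
  refine ⟨T, Opens.ext (Set.ext fun p => ?_), ?_⟩
  · have := congr(p ∈ $hz)
    simp only [PrimeSpectrum.mem_zeroLocus, Set.subset_def, Set.mem_compl_iff, SetLike.mem_coe, eq_iff_iff] at this ⊢
    show p ∈ US ↔ p ∈ (⨆ f : T, D (f : R) : (Spec R).Opens)
    rw [Opens.mem_iSup]
    refine ⟨fun hp => ?_, fun ⟨f, hf⟩ => ?_⟩
    · by_contra hne
      exact this.mp (fun f hf => by_contra fun hfp => hne ⟨⟨f, hf⟩, hfp⟩) hp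
    · by_contra hp
      exact hf (this.mpr hp f.2)
  · rw [← PrimeSpectrum.zeroLocus_subset_zeroLocus_iff]
    intro p hp
    rw [PrimeSpectrum.zeroLocus_span, hz] at hp
    by_contra hJ
    exact hp (hU p hJ)

theorem preimage_iSup {R' : CommRingCat.{u}} (φ : R ⟶ R') [DecidableEq R'] (T : Finset R) :
    Spec.map φ ⁻¹ᵁ (⨆ f : T, D (f : R)) = ⨆ f : T.image φ.hom, D (f : R') := by
  ext p
  show Spec.map φ p ∈ (⨆ f : T, D (f : R) : (Spec R).Opens) ↔ p ∈ (⨆ f : T.image φ.hom, D (f : R') : (Spec R').Opens)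
  rw [Opens.mem_iSup, Opens.mem_iSup]
  exact ⟨fun ⟨f, hf⟩ => ⟨⟨φ f, Finset.mem_image_of_mem _ f.2⟩, hf⟩, fun ⟨f, hf⟩ => by
    obtain ⟨a, ha, hfa⟩ := Finset.mem_image.mp f.2
    exact ⟨⟨a, ha⟩, show φ a ∉ p.asIdeal from hfa.symm ▸ hf⟩⟩

variable {U : (Spec R).Opens} (E : (U : Scheme.{u}).Modules)

/-- The direct image to `Spec R`. -/
abbrev pu : (Spec R).Modules := (Scheme.Modules.pushforward U.ι).obj E

theorem bijective_rs_pu : Function.Bijective (rs (pu E) (le_top : U ≤ ⊤)) := by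
  show Function.Bijective (E.presheaf.map (homOfLE (U.ι.preimage_mono le_top)).op)
  exact bijective_map_eq E (by rw [Scheme.Opens.ι_preimage_self, Scheme.Hom.preimage_top]) _

theorem finite_pu (hE : Coh.IsCoh E) {f : R} (hf : D f ≤ U) :
    Module.Finite Γ(Spec R, D f) Γ(pu E, D f) := by
  haveI := hE.1
  have hr : D f ≤ U.ι.opensRange := by rwa [Scheme.Opens.opensRange_ι]
  have hV : IsAffineOpen (U.ι ⁻¹ᵁ D f) :=
    (IsAffineOpen.Spec_basicOpen f).preimage_of_isOpenImmersion U.ι hr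
  haveI := U.ι.isIso_app (D f) hr
  have hb : Function.Surjective (U.ι.app (D f)).hom := (ConcreteCategory.bijective_of_isIso (U.ι.app (D f))).2
  obtain ⟨s, hs⟩ := (QCohLib.finite_of_isFT (M := E) hE.2 hV).fg_top
  refine ⟨⟨s, eq_top_iff.mpr fun x hx => ?_⟩⟩
  clear hx
  have key : ∀ y : Γ(E, U.ι ⁻¹ᵁ D f), y ∈ Submodule.span Γ((U : Scheme.{u}), U.ι ⁻¹ᵁ D f) (s : Set Γ(E, U.ι ⁻¹ᵁ D f)) →
      (show Γ(pu E, D f) from y) ∈ Submodule.span Γ(Spec R, D f) (show Set Γ(pu E, D f) from (s : Set Γ(E, U.ι ⁻¹ᵁ D f))) := by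
    intro y hy
    induction hy using Submodule.span_induction with
    | mem x hx => exact Submodule.subset_span hx
    | zero => exact zero_mem _
    | add a b _ _ ha hb => exact add_mem ha hb
    | smul c a _ ha =>
      obtain ⟨r, rfl⟩ := hb c
      exact Submodule.smul_mem _ r ha
  exact key x (hs ▸ Submodule.mem_top)

/-- `E` is the restriction of its direct image. -/
def puRestrictIso : (pu E).restrict U.ι ≅ E :=
  asIso ((Scheme.Modules.restrictAdjunction U.ι).counit.app E)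

theorem nonempty_iso_of_baseChange {R' : CommRingCat.{u}} [IsNoetherianRing R] [IsNoetherianRing R'] (φ : R ⟶ R')
    (J : Ideal R) (hJ : J ≤ (⊥ : Ideal R).jacobson) (hJ' : J.map φ.hom ≤ (⊥ : Ideal R').jacobson)
    (hq : ∀ n : ℕ, Function.Bijective (Ideal.quotientMap (Ideal.map φ.hom (J ^ n)) φ.hom Ideal.le_comap_map))
    (hU : ∀ p : PrimeSpectrum R, ¬ J ≤ p.asIdeal → p ∈ U) (E₁ E₂ : (U : Scheme.{u}).Modules)
    (h₁ : Coh.IsCoh E₁) (h₂ : Coh.IsCoh E₂)
    (hiso : Nonempty ((Scheme.Modules.pullback ((Spec.map φ) ∣_ U)).obj E₁ ≅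
      (Scheme.Modules.pullback ((Spec.map φ) ∣_ U)).obj E₂)) :
    Nonempty (E₁ ≅ E₂) := by
  classical
  letI := φ.hom.toAlgebra
  have hq' : QBij R' J := hq
  haveI : Module.Flat R R' := hq'.flat hJ'
  obtain ⟨T, hTU, hT⟩ := exists_finset U hU
  haveI : NoetherianSpace (Spec R) := inferInstanceAs (NoetherianSpace (PrimeSpectrum R))
  haveI : QuasiCompact U.ι := by
    haveI : NoetherianSpace (U : Scheme.{u}) := U.ι.isOpenEmbedding.toIsEmbedding.isInducing.noetherianSpace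
    exact ⟨fun V _ _ => NoetherianSpace.isCompact _⟩
  haveI := h₁.1
  haveI := h₂.1
  let N₁ := pu E₁
  let N₂ := pu E₂
  haveI : Coh.IsQCoh N₁ := QCohLib.isQCoh_pushforward U.ι E₁
  haveI : Coh.IsQCoh N₂ := QCohLib.isQCoh_pushforward U.ι E₂
  let g := Spec.map φ
  haveI : Coh.IsQCoh (KFlatLib.pb g N₁) := KFlatLib.isQCoh_pullback g N₁
  haveI : Coh.IsQCoh (KFlatLib.pb g N₂) := KFlatLib.isQCoh_pullback g N₂
  have s₁ := isSecMod_of_bijective N₁ hTU (bijective_rs_pu E₁)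
  have s₂ := isSecMod_of_bijective N₂ hTU (bijective_rs_pu E₂)
  have hle : ∀ f : T, D (f : R) ≤ U := fun f => le_of_mem hTU f
  obtain ⟨G₁, hG₁, g₁⟩ := exists_isGen N₁ (T := T) fun f => finite_pu E₁ h₁ (hle f)
  obtain ⟨G₂, hG₂, g₂⟩ := exists_isGen N₂ (T := T) fun f => finite_pu E₂ h₂ (hle f)
  obtain ⟨e₁⟩ := exists_equiv_pb φ N₁
  obtain ⟨e₂⟩ := exists_equiv_pb φ N₂
  have hU' : g ⁻¹ᵁ U = ⨆ f : T.image φ.hom, D (f : R') := by rw [hTU, preimage_iSup]
  have b₁ := bijective_of_isSecMod (KFlatLib.pb g N₁) hU' ((s₁.baseChange (A' := R')).of_addEquiv e₁.toAddEquiv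
    fun a x => (congrArg e₁ (algebraMap_smul R' a x).symm).trans (map_smul e₁ _ x))
  have b₂ := bijective_of_isSecMod (KFlatLib.pb g N₂) hU' ((s₂.baseChange (A' := R')).of_addEquiv e₂.toAddEquiv
    fun a x => (congrArg e₂ (algebraMap_smul R' a x).symm).trans (map_smul e₂ _ x))
  haveI := isIso_Γ_unit _ _ b₁
  haveI := isIso_Γ_unit _ _ b₂
  obtain ⟨ι⟩ := hiso
  let ι' : (KFlatLib.pb g N₁).restrict (g ⁻¹ᵁ U).ι ≅ (KFlatLib.pb g N₂).restrict (g ⁻¹ᵁ U).ι :=
    (NormDescLib.restrictPbIso g N₁ U).symm ≪≫ (Scheme.Modules.pullback _).mapIso (puRestrictIso E₁) ≪≫ ι ≪≫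
      (Scheme.Modules.pullback _).mapIso (puRestrictIso E₂).symm ≪≫ NormDescLib.restrictPbIso g N₂ U
  let γ : moduleSpecΓFunctor.obj (KFlatLib.pb g N₁) ≅ moduleSpecΓFunctor.obj (KFlatLib.pb g N₂) :=
    asIso (moduleSpecΓFunctor.map ((Scheme.Modules.restrictAdjunction (g ⁻¹ᵁ U).ι).unit.app _)) ≪≫
      moduleSpecΓFunctor.mapIso ((Scheme.Modules.pushforward (g ⁻¹ᵁ U).ι).mapIso ι') ≪≫
      (asIso (moduleSpecΓFunctor.map ((Scheme.Modules.restrictAdjunction (g ⁻¹ᵁ U).ι).unit.app _))).symm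
  obtain ⟨l⟩ := nonempty_linearEquiv_of_baseChange hJ hJ' hq' hT s₁ s₂ hG₁ hG₂ g₁ g₂
    (e₁.trans (γ.toLinearEquiv.trans e₂.symm))
  have i₁ : IsIso N₁.fromTildeΓ := Scheme.Modules.isIso_fromTildeΓ_of_isQuasicoherent N₁
  have i₂ : IsIso N₂.fromTildeΓ := Scheme.Modules.isIso_fromTildeΓ_of_isQuasicoherent N₂
  let lam : moduleSpecΓFunctor.obj N₁ ≅ moduleSpecΓFunctor.obj N₂ := l.toModuleIso
  exact ⟨(puRestrictIso E₁).symm ≪≫ (Scheme.Modules.restrictFunctor U.ι).mapIso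
    ((@asIso _ _ _ _ N₁.fromTildeΓ i₁).symm ≪≫ (tilde.functor R).mapIso lam ≪≫ @asIso _ _ _ _ N₂.fromTildeΓ i₂) ≪≫ puRestrictIso E₂⟩

end ZarPairLib
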