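import Mathlib.RingTheory.Flat.Tensor
import Mathlib.Algebra.Module.Torsion.Basic
import Mathlib.RingTheory.Filtration
import Mathlib.RingTheory.Jacobson.Ideal
import Mathlib.LinearAlgebra.TensorProduct.Tower
import Mathlib.RingTheory.TensorProduct.Basic

/-!
# Approximation along maps inducing isomorphisms modulo all powers of an ideal
-/

set_option autoImplicit false
universe u

open TensorProduct

noncomputable section

namespace ZarPairLib

variable {A A' : Type u} [CommRing A] [CommRing A'] [Algebra A A'] {J : Ideal A}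

variable (A') in
/-- `A → A'` is bijective modulo all powers of `J`. -/
def QBij (J : Ideal A) : Prop :=
  ∀ n : ℕ, Function.Bijective
    (Ideal.quotientMap (Ideal.map (algebraMap A A') (J ^ n)) (algebraMap A A') Ideal.le_comap_map)

theorem QBij.exists_sub_mem (hq : QBij A' J) (n : ℕ) (s : A') :
    ∃ a : A, s - algebraMap A A' a ∈ (J ^ n).map (algebraMap A A') := by
  obtain ⟨q, hq'⟩ := (hq n).2 (Ideal.Quotient.mk _ s)
  obtain ⟨a, rfl⟩ := Ideal.Quotient.mk_surjective q
  rw [Ideal.quotientMap_mk, eq_comm, Ideal.Quotient.eq] at hq'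
  exact ⟨a, hq'⟩

theorem smul_mem_map_smul {N : Type u} [AddCommGroup N] [Module A N] {n : ℕ} {c : A} (hc : c ∈ J ^ n)
    (z : A' ⊗[A] N) : c • z ∈ (J ^ n).map (algebraMap A A') • (⊤ : Submodule A' (A' ⊗[A] N)) := by
  rw [← algebraMap_smul A' c z]
  exact Submodule.smul_mem_smul (Ideal.mem_map_of_mem _ hc) trivial

theorem tmul_mem_map_smul {N : Type u} [AddCommGroup N] [Module A N] {n : ℕ} {m : N}
    (hm : m ∈ J ^ n • (⊤ : Submodule A N)) :
    (1 : A') ⊗ₜ[A] m ∈ (J ^ n).map (algebraMap A A') • (⊤ : Submodule A' (A' ⊗[A] N)) := by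
  refine Submodule.smul_induction_on hm (fun c hc m _ => ?_) (fun a b ha hb => ?_)
  · rw [tmul_smul]; exact smul_mem_map_smul hc _
  · rw [tmul_add]; exact Submodule.add_mem _ ha hb

theorem QBij.exists_one_tmul (hq : QBij A' J) (n : ℕ) {N : Type u} [AddCommGroup N] [Module A N]
    (x : A' ⊗[A] N) :
    ∃ m : N, x - (1 : A') ⊗ₜ[A] m ∈ (J ^ n).map (algebraMap A A') • (⊤ : Submodule A' (A' ⊗[A] N)) := by
  induction x using TensorProduct.induction_on with
  | zero => exact ⟨0, by simp⟩
  | tmul s m =>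
    obtain ⟨a, ha⟩ := hq.exists_sub_mem n s
    refine ⟨a • m, ?_⟩
    rw [tmul_smul, smul_tmul', Algebra.smul_def, mul_one, ← sub_tmul,
      show (s - algebraMap A A' a) ⊗ₜ[A] m = (s - algebraMap A A' a) • ((1 : A') ⊗ₜ[A] m) by
        rw [smul_tmul', smul_eq_mul, mul_one]]
    exact Submodule.smul_mem_smul ha trivial
  | add x y hx hy =>
    obtain ⟨a, ha⟩ := hx
    obtain ⟨b, hb⟩ := hy
    exact ⟨a + b, by rw [tmul_add, add_sub_add_comm]; exact Submodule.add_mem _ ha hb⟩

theorem QBij.mem_of_one_tmul_mem (hq : QBij A' J) (n : ℕ) {N : Type u} [AddCommGroup N] [Module A N] {m : N}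
    (h : (1 : A') ⊗ₜ[A] m ∈ (J ^ n).map (algebraMap A A') • (⊤ : Submodule A' (A' ⊗[A] N))) :
    m ∈ J ^ n • (⊤ : Submodule A N) := by
  let e := RingEquiv.ofBijective _ (hq n)
  let r : A' →+* A ⧸ J ^ n := e.symm.toRingHom.comp (Ideal.Quotient.mk _)
  have hr : ∀ a : A, r (algebraMap A A' a) = Ideal.Quotient.mk _ a := fun a => by
    show e.symm (Ideal.Quotient.mk _ (algebraMap A A' a)) = _
    rw [RingEquiv.symm_apply_eq]
    simp only [e, RingEquiv.ofBijective_apply, Ideal.quotientMap_mk]
  let ρ : A' ⊗[A] N →ₗ[A] N ⧸ (J ^ n • (⊤ : Submodule A N)) :=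
    TensorProduct.lift (LinearMap.mk₂ A (fun s x => r s • Submodule.Quotient.mk x)
      (fun s t x => by show r (s + t) • _ = _; rw [map_add]; exact add_smul _ _ _)
      (fun c s x => by
        rw [Algebra.smul_def, map_mul, hr, mul_smul]
        rfl)
      (fun s x y => by rw [Submodule.Quotient.mk_add, smul_add])
      (fun c s x => by rw [Submodule.Quotient.mk_smul, smul_comm]))
  have hlin : ∀ (s : A') z, ρ (s • z) = r s • ρ z := fun s z => by
    induction z using TensorProduct.induction_on with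
    | zero => simp
    | tmul t x =>
      rw [smul_tmul', smul_eq_mul]
      simp only [ρ, TensorProduct.lift.tmul, LinearMap.mk₂_apply]
      rw [map_mul, mul_smul]
    | add x y hx hy => rw [smul_add, map_add, map_add, smul_add, hx, hy]
  have hzero : ∀ z ∈ (J ^ n).map (algebraMap A A') • (⊤ : Submodule A' (A' ⊗[A] N)), ρ z = 0 := fun z hz => by
    refine Submodule.smul_induction_on hz (fun s hs z _ => ?_) (fun a b ha hb => ?_)
    · rw [hlin]
      have h0 : r s = 0 := by
        show e.symm (Ideal.Quotient.mk _ s) = 0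
        rw [Ideal.Quotient.eq_zero_iff_mem.mpr hs, map_zero]
      rw [h0, zero_smul]
    · rw [map_add, ha, hb, add_zero]
  have h1 := hzero _ h
  simp only [ρ, TensorProduct.lift.tmul, LinearMap.mk₂_apply] at h1
  rwa [map_one, one_smul, Submodule.Quotient.mk_eq_zero] at h1

/-- Such a map to a ring with `J` in its Jacobson radical is flat. -/
theorem QBij.flat [IsNoetherianRing A] [IsNoetherianRing A'] (hq : QBij A' J)
    (hJ' : J.map (algebraMap A A') ≤ (⊥ : Ideal A').jacobson) : Module.Flat A A' := by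
  rw [Module.Flat.iff_lTensor_injective]
  intro I hI
  haveI : Module.Finite A I := Module.Finite.iff_fg.mpr hI
  refine (injective_iff_map_eq_zero _).mpr fun x hx => ?_
  obtain ⟨k, hk⟩ := Ideal.exists_pow_inf_eq_pow_smul (M := A) J (I : Submodule A A)
  have hmem : ∀ i : ℕ, x ∈ (J.map (algebraMap A A')) ^ i • (⊤ : Submodule A' (A' ⊗[A] I)) := fun i => by
    rw [← Ideal.map_pow]
    obtain ⟨a, ha⟩ := hq.exists_one_tmul (i + k) x
    have h2 : (1 : A') ⊗ₜ[A] (a : A) ∈ (J ^ (i + k)).map (algebraMap A A') • (⊤ : Submodule A' (A' ⊗[A] A)) := by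
      have h := Submodule.mem_map_of_mem (f := LinearMap.baseChange A' (Submodule.subtype (I : Submodule A A))) ha
      rw [Submodule.map_smul''] at h
      have h' := Submodule.smul_mono le_rfl le_top h
      rw [map_sub, LinearMap.baseChange_tmul,
        show LinearMap.baseChange A' (Submodule.subtype (I : Submodule A A)) x = 0 from hx, zero_sub] at h'
      exact (Submodule.neg_mem_iff _).mp h'
    have h3 : (a : A) ∈ J ^ (i + k) • (⊤ : Submodule A A) ⊓ (I : Submodule A A) :=
      ⟨hq.mem_of_one_tmul_mem _ h2, a.2⟩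
    rw [hk (i + k) (Nat.le_add_left _ _), Nat.add_sub_cancel] at h3
    have h4 := Submodule.smul_mono le_rfl inf_le_right h3
    rw [show J ^ i • (I : Submodule A A) = Submodule.map (Submodule.subtype (I : Submodule A A)) (J ^ i • ⊤) by
      rw [Submodule.map_smul'', Submodule.map_top, Submodule.range_subtype], Submodule.mem_map] at h4
    obtain ⟨a', ha', hae⟩ := h4
    obtain rfl : a' = a := Subtype.ext hae
    have h5 : x - (1 : A') ⊗ₜ[A] a' ∈ (J ^ i).map (algebraMap A A') • (⊤ : Submodule A' (A' ⊗[A] I)) :=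
      Submodule.smul_mono (Ideal.map_mono (Ideal.pow_le_pow_right (Nat.le_add_right _ _))) le_rfl ha
    simpa using Submodule.add_mem _ h5 (tmul_mem_map_smul ha')
  have hbot := Ideal.iInf_pow_smul_eq_bot_of_le_jacobson (M := A' ⊗[A] I) (J.map (algebraMap A A')) hJ'
  exact (Submodule.mem_bot A').mp (hbot ▸ Submodule.mem_iInf _ |>.mpr hmem)

end ZarPairLib
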