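import Groth.Agent.ZarPairLib.SecMod
import Mathlib.Algebra.Module.FinitePresentation
import Mathlib.RingTheory.Ideal.Colon
import Mathlib.RingTheory.Nakayama
import Mathlib.RingTheory.Finiteness.Ideal
import Mathlib.RingTheory.OrzechProperty

/-!
# Isomorphisms of modules of sections descend along Zariski pairs
-/

set_option autoImplicit false
universe u

open TensorProduct

noncomputable section

namespace ZarPairLib

variable {A A' : Type u} [CommRing A] [CommRing A'] [Algebra A A'] {T : Finset A} {J : Ideal A}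
variable {M₁ M₂ : Type u} [AddCommGroup M₁] [Module A M₁] [AddCommGroup M₂] [Module A M₂]

/-- A map `A' ⊗ M₁ → A' ⊗ M₂` is a combination of base changes. -/
theorem exists_expand [IsNoetherianRing A] [Module.Flat A A'] (h₂ : IsSecMod T M₂) {G₁ : Submodule A M₁}
    (hG₁ : G₁.FG) (g₁ : IsGen T G₁) (θ : A' ⊗[A] M₁ →ₗ[A'] A' ⊗[A] M₂) :
    ∃ (r : ℕ) (a' : Fin r → A') (Ψ : Fin r → (M₁ →ₗ[A] M₂)),
      θ = ∑ i, a' i • (Ψ i).baseChange A' := by
  classical
  haveI : Module.Finite A G₁ := Module.Finite.iff_fg.mpr hG₁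
  haveI : Module.FinitePresentation A G₁ := Module.finitePresentation_of_finite A G₁
  have hbc := Module.FinitePresentation.isBaseChange_map A G₁ M₂ A'
  obtain ⟨z, hz⟩ := hbc.equiv.surjective (θ.comp (G₁.subtype.baseChange A'))
  obtain ⟨S, hS⟩ := TensorProduct.exists_finset z
  choose Ψ hΨ using fun i : Fin S.card => h₂.exists_extend g₁ ((S.equivFin.symm i).1.2)
  refine ⟨S.card, fun i => (S.equivFin.symm i).1.1, Ψ, ?_⟩
  have hd : ∀ y : A' ⊗[A] G₁, θ (G₁.subtype.baseChange A' y) =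
      (∑ i, (S.equivFin.symm i).1.1 • (Ψ i).baseChange A') (G₁.subtype.baseChange A' y) := fun y => by
    rw [show θ (G₁.subtype.baseChange A' y) = hbc.equiv z y by rw [hz]; rfl, hS, map_sum, LinearMap.sum_apply,
      LinearMap.sum_apply, ← S.sum_coe_sort, ← Equiv.sum_comp S.equivFin.symm]
    refine Finset.sum_congr rfl fun i _ => ?_
    rw [IsBaseChange.equiv_tmul, LinearMap.smul_apply, LinearMap.smul_apply]
    congr 1
    show ((S.equivFin.symm i).1.2).baseChange A' y = _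
    rw [← LinearMap.comp_apply, ← LinearMap.baseChange_comp,
      show (Ψ i).comp G₁.subtype = (S.equivFin.symm i).1.2 from LinearMap.ext (hΨ i)]
  have hgen : ∀ (x : A' ⊗[A] M₁) (f : A), f ∈ T → ∃ (k : ℕ) (y : A' ⊗[A] G₁),
      G₁.subtype.baseChange A' y = f ^ k • x := fun x f hf => by
    induction x using TensorProduct.induction_on with
    | zero => exact ⟨0, 0, by simp⟩
    | tmul s m =>
      obtain ⟨k, hk⟩ := g₁ m f hf
      exact ⟨k, s ⊗ₜ ⟨_, hk⟩, by rw [LinearMap.baseChange_tmul, Submodule.subtype_apply, tmul_smul]⟩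
    | add a b ha hb =>
      obtain ⟨k, y, hy⟩ := ha
      obtain ⟨l, y', hy'⟩ := hb
      exact ⟨k + l, f ^ l • y + f ^ k • y', by
        rw [map_add, LinearMap.map_smul_of_tower, LinearMap.map_smul_of_tower, hy, hy', ← mul_smul, ← mul_smul,
          ← pow_add, ← pow_add, add_comm l, smul_add]⟩
  refine LinearMap.ext fun x => sub_eq_zero.mp <| (h₂.baseChange (A' := A')).sep _ fun f hf => ?_
  obtain ⟨k, y, hy⟩ := hgen x f hf
  refine ⟨k, ?_⟩
  rw [smul_sub, ← LinearMap.map_smul_of_tower, ← LinearMap.map_smul_of_tower, ← hy, hd, sub_self]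

/-- A power of `J` pushes a finitely generated submodule into `G`. -/
theorem exists_pow_smul_le [IsNoetherianRing A] (hT : J ≤ (Ideal.span (T : Set A)).radical) {G C : Submodule A M₁}
    (hg : IsGen T G) (hC : C.FG) : ∃ c : ℕ, J ^ c • C ≤ G := by
  classical
  obtain ⟨s, rfl⟩ := hC
  have h : J ≤ (G.colon (Submodule.span A (s : Set M₁) : Set M₁)).radical := by
    refine hT.trans ?_
    rw [Ideal.radical_le_radical_iff, Ideal.span_le]
    intro f hf
    choose k hk using fun x : s => hg x.1 f hf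
    refine ⟨Finset.univ.sup k, Submodule.mem_colon.mpr fun x hx => ?_⟩
    induction hx using Submodule.span_induction with
    | mem x hx =>
      obtain ⟨j, hj⟩ := Nat.exists_eq_add_of_le (Finset.le_sup (f := k) (Finset.mem_univ ⟨x, hx⟩))
      rw [hj, add_comm, pow_add, mul_smul]
      exact G.smul_mem _ (hk ⟨x, hx⟩)
    | zero => simp
    | add a b _ _ ha hb => rw [smul_add]; exact G.add_mem ha hb
    | smul c a _ ha => rw [smul_comm]; exact G.smul_mem c ha
  obtain ⟨c, hc⟩ := Ideal.exists_pow_le_of_le_radical_of_fg h (IsNoetherian.noetherian _)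
  exact ⟨c, Submodule.smul_le.mpr fun a ha x hx => Submodule.mem_colon.mp (hc ha) x hx⟩

/-- Composites of close approximations of `θ` and `θ⁻¹` are bijective. -/
theorem eventually_bijective [IsNoetherianRing A] [Module.Flat A A'] (hq : QBij A' J) (hJ : J ≤ (⊥ : Ideal A).jacobson)
    (hT : J ≤ (Ideal.span (T : Set A)).radical) (h₁ : IsSecMod T M₁) {G₁ : Submodule A M₁} (hG₁ : G₁.FG)
    (g₁ : IsGen T G₁) {θ : A' ⊗[A] M₁ →ₗ[A'] A' ⊗[A] M₂} {θ' : A' ⊗[A] M₂ →ₗ[A'] A' ⊗[A] M₁}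
    (hθ : ∀ x, θ' (θ x) = x) {r : ℕ} {a' : Fin r → A'} {Ψ : Fin r → (M₁ →ₗ[A] M₂)}
    (hr : θ = ∑ i, a' i • (Ψ i).baseChange A') {s : ℕ} {b' : Fin s → A'} {Ω : Fin s → (M₂ →ₗ[A] M₁)}
    (hs : θ' = ∑ k, b' k • (Ω k).baseChange A') :
    ∃ N₀ : ℕ, ∀ N ≥ N₀, ∀ (a : Fin r → A) (b : Fin s → A),
      (∀ i, a' i - algebraMap A A' (a i) ∈ (J ^ N).map (algebraMap A A')) →
      (∀ k, b' k - algebraMap A A' (b k) ∈ (J ^ N).map (algebraMap A A')) →
      Function.Bijective ((∑ k, b k • Ω k).comp (∑ i, a i • Ψ i)) := by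
  classical
  let C : Submodule A M₁ := G₁ ⊔ ⨆ p : Fin s × Fin r, G₁.map ((Ω p.1).comp (Ψ p.2))
  have hC : C.FG := hG₁.sup (Submodule.fg_iSup _ fun _ => hG₁.map _)
  obtain ⟨c, hc⟩ := exists_pow_smul_le hT g₁ hC
  refine ⟨c + 1, fun N hN a b ha hb => ?_⟩
  set U := (∑ k, b k • Ω k).comp (∑ i, a i • Ψ i) with hU
  have hUapp : ∀ x, U x = ∑ k, ∑ i, (b k * a i) • Ω k (Ψ i x) := fun x => by
    simp only [hU, LinearMap.comp_apply, LinearMap.sum_apply, LinearMap.smul_apply, map_sum, map_smul,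
      Finset.smul_sum, mul_smul]
    exact Finset.sum_comm.trans (Finset.sum_congr rfl fun k _ => Finset.sum_congr rfl fun i _ => smul_comm _ _ _)
  have hin : ∀ g ∈ G₁, ∀ k i, Ω k (Ψ i g) ∈ C := fun g hg k i =>
    Submodule.mem_sup_right (Submodule.mem_iSup_of_mem (k, i) ⟨g, hg, rfl⟩)
  have hclose : ∀ g ∈ G₁, U g - g ∈ J • G₁ := fun g hg => by
    let w : C := ∑ k, ∑ i, (b k * a i) • (⟨_, hin g hg k i⟩ : C) - ⟨g, Submodule.mem_sup_left hg⟩
    let e : A' ⊗[A] C := ∑ k, ∑ i, (algebraMap A A' (b k * a i) - b' k * a' i) • ((1 : A') ⊗ₜ ⟨_, hin g hg k i⟩)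
    have he : (1 : A') ⊗ₜ[A] w = e := by
      apply Module.Flat.lTensor_preserves_injective_linearMap (M := A') C.subtype C.subtype_injective
      show C.subtype.baseChange A' _ = C.subtype.baseChange A' _
      have hx := hθ ((1 : A') ⊗ₜ g)
      simp only [hr, hs, LinearMap.sum_apply, LinearMap.smul_apply, LinearMap.baseChange_tmul, map_sum, map_smul,
        Finset.smul_sum, smul_smul] at hx
      rw [Finset.sum_comm] at hx
      simp only [w, e, LinearMap.baseChange_tmul, map_sum, map_smul, map_sub, LinearMap.map_smul_of_tower,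
        Submodule.subtype_apply,
        tmul_sub, tmul_sum, tmul_smul, sub_smul, algebraMap_smul, Finset.sum_sub_distrib]
      rw [← hx]
      simp only [mul_comm (a' _)]
      simp only [← Finset.sum_sub_distrib]
      refine Finset.sum_congr rfl fun k _ => Finset.sum_congr rfl fun i _ => ?_
      rw [← algebraMap_smul A' (b k * a i)]
      exact (sub_smul _ _ _).symm
    have hem : e ∈ (J ^ N).map (algebraMap A A') • (⊤ : Submodule A' (A' ⊗[A] C)) := by
      refine Submodule.sum_mem _ fun k _ => Submodule.sum_mem _ fun i _ => Submodule.smul_mem_smul ?_ trivial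
      rw [map_mul, show algebraMap A A' (b k) * algebraMap A A' (a i) - b' k * a' i =
        -(algebraMap A A' (b k) * (a' i - algebraMap A A' (a i)) + (b' k - algebraMap A A' (b k)) * a' i) by ring]
      exact neg_mem (add_mem (Ideal.mul_mem_left _ _ (ha i)) (Ideal.mul_mem_right _ _ (hb k)))
    have hw := Submodule.mem_map_of_mem (f := C.subtype) (hq.mem_of_one_tmul_mem N (he ▸ hem))
    rw [Submodule.map_smul'', Submodule.map_top, Submodule.range_subtype] at hw
    have hval : C.subtype w = U g - g := by simp [w, hUapp]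
    rw [hval] at hw
    refine Submodule.smul_mono le_rfl hc ?_
    rw [← mul_smul, ← pow_succ']
    exact Submodule.smul_mono (Ideal.pow_le_pow_right hN) le_rfl hw
  have hmaps : ∀ g ∈ G₁, U g ∈ G₁ := fun g hg => by
    simpa using G₁.add_mem (Submodule.smul_le_right (hclose g hg)) hg
  have hsur : G₁ ≤ G₁.map U := Submodule.le_of_le_smul_of_le_jacobson_bot hG₁ hJ fun g hg => by
    rw [show g = U g + -(U g - g) by abel]
    exact Submodule.add_mem_sup (Submodule.mem_map_of_mem hg) (neg_mem (hclose g hg))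
  haveI : Module.Finite A G₁ := Module.Finite.iff_fg.mpr hG₁
  let u : G₁ →ₗ[A] G₁ := U.restrict hmaps
  have hu : Function.Surjective u := fun g => by
    obtain ⟨y, hy, e⟩ := hsur g.2
    exact ⟨⟨y, hy⟩, Subtype.ext e⟩
  let v := LinearEquiv.ofBijective u ⟨OrzechProperty.injective_of_surjective_endomorphism u hu, hu⟩
  obtain ⟨V, hV⟩ := h₁.exists_extend g₁ (G₁.subtype.comp v.symm.toLinearMap)
  have ext_id : ∀ W : M₁ →ₗ[A] M₁, (∀ g ∈ G₁, W g = g) → ∀ x, W x = x := fun W hW x =>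
    sub_eq_zero.mp <| h₁.sep _ fun f hf => by
      obtain ⟨k, hk⟩ := g₁ x f hf
      exact ⟨k, by rw [smul_sub, ← map_smul, hW _ hk, sub_self]⟩
  refine Function.bijective_iff_has_inverse.mpr ⟨V, ext_id (V.comp U) fun g hg => ?_, ext_id (U.comp V) fun g hg => ?_⟩
  · show V (U g) = g
    have : U g = (v ⟨g, hg⟩ : M₁) := rfl
    rw [this, hV]
    show ((v.symm (v ⟨g, hg⟩) : G₁) : M₁) = g
    rw [LinearEquiv.symm_apply_apply]
  · show U (V g) = g
    rw [show V g = (v.symm ⟨g, hg⟩ : M₁) from hV ⟨g, hg⟩]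
    exact congrArg Subtype.val (v.apply_symm_apply ⟨g, hg⟩)

/-- An isomorphism after base change descends. -/
theorem nonempty_linearEquiv_of_baseChange [IsNoetherianRing A] [IsNoetherianRing A']
    (hJ : J ≤ (⊥ : Ideal A).jacobson) (hJ' : J.map (algebraMap A A') ≤ (⊥ : Ideal A').jacobson)
    (hq : QBij A' J) (hT : J ≤ (Ideal.span (T : Set A)).radical) (h₁ : IsSecMod T M₁) (h₂ : IsSecMod T M₂)
    {G₁ : Submodule A M₁} {G₂ : Submodule A M₂} (hG₁ : G₁.FG) (hG₂ : G₂.FG) (g₁ : IsGen T G₁) (g₂ : IsGen T G₂)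
    (θ : A' ⊗[A] M₁ ≃ₗ[A'] A' ⊗[A] M₂) : Nonempty (M₁ ≃ₗ[A] M₂) := by
  haveI := hq.flat hJ'
  obtain ⟨r, a', Ψ, hr⟩ := exists_expand h₂ hG₁ g₁ θ.toLinearMap
  obtain ⟨s, b', Ω, hs⟩ := exists_expand h₁ hG₂ g₂ θ.symm.toLinearMap
  obtain ⟨N₁, hN₁⟩ := eventually_bijective hq hJ hT h₁ hG₁ g₁ θ.symm_apply_apply hr hs
  obtain ⟨N₂, hN₂⟩ := eventually_bijective hq hJ hT h₂ hG₂ g₂ θ.apply_symm_apply hs hr
  choose a ha using fun i => hq.exists_sub_mem (max N₁ N₂) (a' i)
  choose b hb using fun k => hq.exists_sub_mem (max N₁ N₂) (b' k)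
  have i₁ := (hN₁ _ (le_max_left _ _) a b ha hb).1
  have s₂ := (hN₂ _ (le_max_right _ _) b a hb ha).2
  rw [LinearMap.coe_comp] at i₁ s₂
  exact ⟨LinearEquiv.ofBijective (∑ i, a i • Ψ i) ⟨i₁.of_comp, s₂.of_comp⟩⟩

end ZarPairLib
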