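import Groth.Agent.ZarPairLib.Approx
import Mathlib.Algebra.Module.LocalizedModule.Basic
import Mathlib.LinearAlgebra.TensorProduct.Pi
import Mathlib.RingTheory.Flat.Basic

/-!
# Modules of sections over a finite union of basic opens
-/

set_option autoImplicit false
universe u

open TensorProduct

noncomputable section

namespace ZarPairLib

/-- `M` is the module of sections over the union of the basic opens `D(f)`, `f ∈ T`. -/
structure IsSecMod {A : Type u} [CommRing A] (T : Finset A) (M : Type u) [AddCommGroup M] [Module A M] : Prop where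
  sep : ∀ x : M, (∀ f ∈ T, ∃ k : ℕ, f ^ k • x = 0) → x = 0
  glue : ∀ (k : ℕ) (y : T → M),
    (∀ f g : T, ∃ e : ℕ, ((f : A) * g) ^ e • ((g : A) ^ k • y f - (f : A) ^ k • y g) = 0) →
    ∃ z : M, ∀ f : T, ∃ e : ℕ, (f : A) ^ e • ((f : A) ^ k • z - y f) = 0

/-- `G` spans `M` over each of the basic opens. -/
def IsGen {A : Type u} [CommRing A] (T : Finset A) {M : Type u} [AddCommGroup M] [Module A M]
    (G : Submodule A M) : Prop :=
  ∀ (x : M) (f : A), f ∈ T → ∃ k : ℕ, f ^ k • x ∈ G

variable {A : Type u} [CommRing A] {T : Finset A}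

theorem pow_smul_mono {M : Type u} [AddCommGroup M] [Module A M] {f : A} {k l : ℕ} (h : k ≤ l) {x : M}
    (hx : f ^ k • x = 0) : f ^ l • x = 0 := by
  obtain ⟨j, rfl⟩ := Nat.exists_eq_add_of_le h
  rw [add_comm, pow_add, mul_smul, hx, smul_zero]

variable {M : Type u} [AddCommGroup M] [Module A M]

theorem IsSecMod.exists_extend (hM : IsSecMod T M) {M₁ : Type u} [AddCommGroup M₁] [Module A M₁]
    {G : Submodule A M₁} (hG : IsGen T G) (ψ : G →ₗ[A] M) :
    ∃ Ψ : M₁ →ₗ[A] M, ∀ g : G, Ψ g = ψ g := by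
  classical
  let P : M₁ → M → Prop := fun x y => ∀ f ∈ T, ∃ (k : ℕ) (h : f ^ k • x ∈ G), f ^ k • y = ψ ⟨f ^ k • x, h⟩
  have up : ∀ {x : M₁} {y : M} {f : A} {k l : ℕ} (h : f ^ k • x ∈ G), k ≤ l → f ^ k • y = ψ ⟨f ^ k • x, h⟩ →
      ∃ h' : f ^ l • x ∈ G, f ^ l • y = ψ ⟨f ^ l • x, h'⟩ := by
    intro x y f k l h hkl he
    obtain ⟨j, rfl⟩ := Nat.exists_eq_add_of_le hkl
    have hx : f ^ (k + j) • x = f ^ j • f ^ k • x := by rw [← mul_smul, ← pow_add, add_comm]
    refine ⟨hx ▸ G.smul_mem _ h, ?_⟩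
    rw [show (⟨f ^ (k + j) • x, hx ▸ G.smul_mem _ h⟩ : G) = f ^ j • ⟨f ^ k • x, h⟩ from Subtype.ext hx,
      map_smul, ← he, ← mul_smul, ← pow_add, add_comm]
  have huniq : ∀ x y y', P x y → P x y' → y = y' := fun x y y' hy hy' => sub_eq_zero.mp <| hM.sep _ fun f hf => by
    obtain ⟨k, h, he⟩ := hy f hf
    obtain ⟨l, h', he'⟩ := hy' f hf
    obtain ⟨_, e1⟩ := up h (le_max_left k l) he
    obtain ⟨_, e2⟩ := up h' (le_max_right k l) he'
    exact ⟨max k l, by rw [smul_sub, e1, e2, sub_self]⟩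
  have hex : ∀ x, ∃ y, P x y := fun x => by
    choose k hk using fun f : T => hG x f.1 f.2
    let K := Finset.univ.sup k
    have hK : ∀ f : T, (f : A) ^ K • x ∈ G := fun f => by
      obtain ⟨j, hj⟩ := Nat.exists_eq_add_of_le (Finset.le_sup (f := k) (Finset.mem_univ f))
      rw [show K = _ from hj, add_comm, pow_add, mul_smul]
      exact G.smul_mem _ (hk f)
    obtain ⟨z, hz⟩ := hM.glue K (fun f => ψ ⟨_, hK f⟩) fun f g => ⟨0, by
      rw [pow_zero, one_smul, ← map_smul, ← map_smul, ← map_sub]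
      convert map_zero ψ
      exact Subtype.ext (by
        rw [Submodule.coe_sub, Submodule.coe_smul, Submodule.coe_smul, Submodule.coe_zero, smul_comm, sub_self])⟩
    refine ⟨z, fun f hf => ?_⟩
    obtain ⟨e, he⟩ := hz ⟨f, hf⟩
    have hx : f ^ (e + K) • x = f ^ e • f ^ K • x := by rw [← mul_smul, ← pow_add]
    refine ⟨e + K, hx ▸ G.smul_mem _ (hK ⟨f, hf⟩), ?_⟩
    rw [show (⟨f ^ (e + K) • x, hx ▸ G.smul_mem _ (hK ⟨f, hf⟩)⟩ : G) = f ^ e • ⟨f ^ K • x, hK ⟨f, hf⟩⟩ from
      Subtype.ext hx, map_smul, pow_add, mul_smul, ← sub_eq_zero, ← smul_sub]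
    exact he
  choose Ψ hΨ using hex
  refine ⟨{ toFun := Ψ, map_add' := fun x x' => huniq _ _ _ (hΨ _) fun f hf => ?_,
            map_smul' := fun c x => huniq _ _ _ (hΨ _) fun f hf => ?_ }, fun g => huniq _ _ _ (hΨ _) fun f hf => ?_⟩
  · obtain ⟨k, h, he⟩ := hΨ x f hf
    obtain ⟨l, h', he'⟩ := hΨ x' f hf
    obtain ⟨a1, e1⟩ := up h (le_max_left k l) he
    obtain ⟨a2, e2⟩ := up h' (le_max_right k l) he'
    refine ⟨max k l, by rw [smul_add]; exact G.add_mem a1 a2, ?_⟩
    rw [smul_add, e1, e2, ← map_add]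
    exact congrArg ψ (Subtype.ext (smul_add _ _ _).symm)
  · obtain ⟨k, h, he⟩ := hΨ x f hf
    refine ⟨k, by rw [smul_comm]; exact G.smul_mem c h, ?_⟩
    rw [RingHom.id_apply, smul_comm, he, ← map_smul]
    exact congrArg ψ (Subtype.ext (smul_comm _ _ _))
  · exact ⟨0, by rw [pow_zero, one_smul]; exact g.2, by
      simp only [pow_zero, one_smul]⟩

variable {A' : Type u} [CommRing A'] [Algebra A A']

theorem piRight_apply_eq {ι : Type*} [Fintype ι] [DecidableEq ι] {N : ι → Type*} [∀ i, AddCommGroup (N i)]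
    [∀ i, Module A (N i)] (z : A' ⊗[A] (∀ i, N i)) (i : ι) :
    TensorProduct.piRight A A A' N z i = LinearMap.lTensor A' (LinearMap.proj i) z := by
  induction z using TensorProduct.induction_on with
  | zero => simp
  | tmul s m => simp
  | add x y hx hy => rw [map_add, map_add, Pi.add_apply, hx, hy]

theorem lTensor_loc_eq_zero [Module.Flat A A'] {f : A} (x : A' ⊗[A] M) {e : ℕ} (h : f ^ e • x = 0) :
    LinearMap.lTensor A' (LocalizedModule.mkLinearMap (Submonoid.powers f) M) x = 0 := by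
  let g := LocalizedModule.mkLinearMap (Submonoid.powers f) M
  have hu : Function.Injective (DistribSMul.toLinearMap A (LocalizedModule (Submonoid.powers f) M) (f ^ e)) :=
    ((Module.End.isUnit_iff _).mp (IsLocalizedModule.map_units g (⟨f ^ e, e, rfl⟩ : Submonoid.powers f))).1
  apply Module.Flat.lTensor_preserves_injective_linearMap (M := A') _ hu
  rw [map_zero]
  have key : ∀ z : A' ⊗[A] LocalizedModule (Submonoid.powers f) M,
      LinearMap.lTensor A' (DistribSMul.toLinearMap A (LocalizedModule (Submonoid.powers f) M) (f ^ e)) z = f ^ e • z :=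
    fun z => by
      induction z using TensorProduct.induction_on with
      | zero => simp
      | tmul s m => simp [tmul_smul]
      | add x y hx hy => simp [map_add, hx, hy]
  rw [key, ← map_smul, h, map_zero]

theorem IsSecMod.baseChange [Module.Flat A A'] (hM : IsSecMod T M) : IsSecMod T (A' ⊗[A] M) := by
  classical
  constructor
  · intro x hx
    let d : M →ₗ[A] (∀ f : T, LocalizedModule (Submonoid.powers (f : A)) M) :=
      LinearMap.pi fun f => LocalizedModule.mkLinearMap _ _
    have hd : Function.Injective d := (injective_iff_map_eq_zero d).mpr fun m hm => hM.sep m fun f hf => by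
      obtain ⟨⟨_, k, rfl⟩, hk⟩ := (IsLocalizedModule.eq_zero_iff (Submonoid.powers f)
        (LocalizedModule.mkLinearMap (Submonoid.powers f) M)).mp (congrFun hm ⟨f, hf⟩)
      exact ⟨k, hk⟩
    apply Module.Flat.lTensor_preserves_injective_linearMap (M := A') d hd
    rw [map_zero]
    apply (TensorProduct.piRight A A A' _).injective
    rw [map_zero]
    funext f
    obtain ⟨k, hk⟩ := hx f.1 f.2
    rw [piRight_apply_eq, ← LinearMap.comp_apply, ← LinearMap.lTensor_comp, LinearMap.proj_pi]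
    exact lTensor_loc_eq_zero x hk
  · intro k y hy
    let δ : (T → M) →ₗ[A] (∀ p : T × T, LocalizedModule (Submonoid.powers ((p.1 : A) * p.2)) M) :=
      LinearMap.pi fun p => (LocalizedModule.mkLinearMap _ _).comp
        ((p.2 : A) ^ k • LinearMap.proj p.1 - (p.1 : A) ^ k • LinearMap.proj p.2)
    let y' := (TensorProduct.piRight A A A' fun _ : T => M).symm y
    have hproj : ∀ f : T, LinearMap.lTensor A' (LinearMap.proj f) y' = y f := fun f => by
      rw [← piRight_apply_eq, LinearEquiv.apply_symm_apply]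
    have hδ : LinearMap.lTensor A' δ y' = 0 := by
      apply (TensorProduct.piRight A A A' _).injective
      rw [map_zero]
      funext p
      obtain ⟨e, he⟩ := hy p.1 p.2
      rw [piRight_apply_eq, ← LinearMap.comp_apply, ← LinearMap.lTensor_comp, LinearMap.proj_pi,
        LinearMap.lTensor_comp, LinearMap.comp_apply, LinearMap.lTensor_sub, LinearMap.sub_apply,
        LinearMap.lTensor_smul, LinearMap.lTensor_smul, LinearMap.smul_apply, LinearMap.smul_apply, hproj, hproj]
      exact lTensor_loc_eq_zero _ he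
    obtain ⟨w, hw⟩ := (Module.Flat.lTensor_exact A' (LinearMap.exact_subtype_ker_map δ) y').mp hδ
    have key : ∀ w : A' ⊗[A] LinearMap.ker δ, ∃ z : A' ⊗[A] M, ∀ f : T, ∃ e : ℕ,
        (f : A) ^ e • ((f : A) ^ k • z - LinearMap.lTensor A' ((LinearMap.proj f).comp (LinearMap.ker δ).subtype) w) = 0 := by
      intro w
      induction w using TensorProduct.induction_on with
      | zero => exact ⟨0, fun f => ⟨0, by simp⟩⟩
      | tmul s m =>
        obtain ⟨z, hz⟩ := hM.glue k m.1 fun f g => by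
          obtain ⟨⟨_, e, rfl⟩, he⟩ := (IsLocalizedModule.eq_zero_iff (Submonoid.powers ((f : A) * g))
            (LocalizedModule.mkLinearMap (Submonoid.powers ((f : A) * g)) M)).mp (congrFun m.2 (f, g))
          exact ⟨e, he⟩
        refine ⟨s ⊗ₜ z, fun f => ?_⟩
        obtain ⟨e, he⟩ := hz f
        exact ⟨e, by
          rw [LinearMap.lTensor_tmul, ← tmul_smul, ← tmul_sub, ← tmul_smul,
            show ((LinearMap.proj f).comp (LinearMap.ker δ).subtype) m = m.1 f from rfl, he, tmul_zero]⟩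
      | add a b ha hb =>
        obtain ⟨za, hza⟩ := ha
        obtain ⟨zb, hzb⟩ := hb
        refine ⟨za + zb, fun f => ?_⟩
        obtain ⟨ea, hea⟩ := hza f
        obtain ⟨eb, heb⟩ := hzb f
        refine ⟨max ea eb, ?_⟩
        rw [map_add, smul_add, add_sub_add_comm, smul_add, pow_smul_mono (le_max_left _ _) hea,
          pow_smul_mono (le_max_right _ _) heb, add_zero]
    obtain ⟨z, hz⟩ := key w
    refine ⟨z, fun f => ?_⟩
    obtain ⟨e, he⟩ := hz f
    rw [LinearMap.lTensor_comp, LinearMap.comp_apply, hw, hproj] at he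
    exact ⟨e, he⟩

end ZarPairLib
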