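import Groth.Agent.ZarPairLib.SecMod
import Groth.Agent.QCohLib.QCoh
import Mathlib.AlgebraicGeometry.Modules.Tilde

/-!
# Quasi-coherent modules determined by their sections over a finite union of basic opens
-/

set_option autoImplicit false
universe u

open CategoryTheory AlgebraicGeometry TopologicalSpace Opposite

noncomputable section

namespace ZarPairLib

variable {R : CommRingCat.{u}}

/-- The basic open `D(f)`. -/
abbrev D (f : R) : (Spec R).Opens := PrimeSpectrum.basicOpen f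

variable (F : (Spec R).Modules)

/-- Restriction, linear over `R`. -/
def rs {U V : (Spec R).Opens} (h : V ≤ U) : Γ(F, U) →ₗ[R] Γ(F, V) where
  toFun := F.presheaf.map (homOfLE h).op
  map_add' := map_add _
  map_smul' r x := Scheme.Modules.map_smul_Spec _ r x

theorem rs_rs {U V W : (Spec R).Opens} (h₁ : V ≤ U) (h₂ : W ≤ V) (x : Γ(F, U)) :
    rs F h₂ (rs F h₁ x) = rs F (h₂.trans h₁) x :=
  (congr($(F.presheaf.map_comp (homOfLE h₁).op (homOfLE h₂).op) x)).symm

theorem smul_cancel {f : R} {U : (Spec R).Opens} (h : U ≤ D f) (k : ℕ) {x y : Γ(F, U)}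
    (e : f ^ k • x = f ^ k • y) : x = y := by
  induction k with
  | zero => simpa using e
  | succ k ih =>
    refine ih (Scheme.Modules.isSMulRegular_of_le_basicOpen h ?_)
    simpa [pow_succ', mul_smul] using e

theorem exists_div {f : R} {U : (Spec R).Opens} (h : U ≤ D f) (k : ℕ) (y : Γ(F, U)) :
    ∃ s : Γ(F, U), f ^ k • s = y := by
  obtain ⟨s, hs⟩ := ((Module.End.isUnit_iff _).mp
    ((Scheme.Modules.isUnit_algebraMap_end_of_le_basicOpen (M := F) f h).pow k)).2 y
  refine ⟨s, ?_⟩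
  rw [← map_pow] at hs
  exact hs

theorem isLocalizedModule_res [Coh.IsQCoh F] (f : R) :
    IsLocalizedModule.Away f (rs F (le_top : D f ≤ ⊤)) :=
  (isIso_fromTildeΓ_iff_isLocalizing F).mp (Scheme.Modules.isIso_fromTildeΓ_of_isQuasicoherent _) f

theorem exists_pow_smul_eq [Coh.IsQCoh F] {f : R} (s : Γ(F, D f)) :
    ∃ (k : ℕ) (y : Γ(F, ⊤)), rs F le_top y = f ^ k • s := by
  obtain ⟨⟨y, _, k, rfl⟩, h⟩ := IsLocalizedModule.surj (.powers f) _ (self := isLocalizedModule_res F f) s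
  exact ⟨k, y, h.symm⟩

theorem exists_pow_smul_zero [Coh.IsQCoh F] {f : R} (x : Γ(F, ⊤))
    (h : rs F (le_top : D f ≤ ⊤) x = 0) : ∃ k : ℕ, f ^ k • x = 0 := by
  haveI := isLocalizedModule_res F f
  obtain ⟨⟨_, k, rfl⟩, hk⟩ := (IsLocalizedModule.eq_zero_iff (.powers f) (rs F (le_top : D f ≤ ⊤))).mp h
  exact ⟨k, hk⟩

section

variable {T : Finset R} {W : (Spec R).Opens} (hW : W = ⨆ f : T, D (f : R))
include hW

theorem le_of_mem (f : T) : D (f : R) ≤ W := hW ▸ le_iSup (fun f : T => D (f : R)) f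

theorem eq_of_res {x y : Γ(F, W)}
    (h : ∀ f : T, rs F (le_of_mem hW f) x = rs F (le_of_mem hW f) y) : x = y :=
  TopCat.Sheaf.eq_of_locally_eq' (modulesSpecToSheaf.obj F) (fun f : T => D (f : R)) W
    (fun f => homOfLE (le_of_mem hW f)) hW.le x y h

theorem exists_glue (s : ∀ f : T, Γ(F, D (f : R)))
    (hs : ∀ f g : T, rs F (inf_le_left : D (f : R) ⊓ D (g : R) ≤ _) (s f) = rs F inf_le_right (s g)) :
    ∃ t : Γ(F, W), ∀ f : T, rs F (le_of_mem hW f) t = s f := by
  obtain ⟨t, ht, -⟩ := TopCat.Sheaf.existsUnique_gluing' (modulesSpecToSheaf.obj F) (fun f : T => D (f : R)) W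
    (fun f => homOfLE (le_of_mem hW f)) hW.le
    (show ∀ f : T, ToType ((modulesSpecToSheaf.obj F).obj.obj (op (D (f : R)))) from s)
    (fun f g => hs f g)
  exact ⟨t, ht⟩

theorem isSecMod_of_bijective [Coh.IsQCoh F] (hb : Function.Bijective (rs F (le_top : W ≤ ⊤))) :
    IsSecMod T Γ(F, ⊤) := by
  refine ⟨fun x hx => hb.1 (eq_of_res F hW fun f => ?_), fun k y hy => ?_⟩
  · obtain ⟨j, hj⟩ := hx f.1 f.2
    rw [map_zero, map_zero, rs_rs]
    refine smul_cancel F (f := (f : R)) le_rfl j ?_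
    rw [← map_smul, hj, map_zero, smul_zero]
  · choose s hs using fun f : T => exists_div F (f := (f : R)) (le_refl (D (f : R))) k (rs F le_top (y f))
    obtain ⟨t, ht⟩ := exists_glue F hW s fun f g => by
      obtain ⟨e, he⟩ := hy f g
      have hfg : D (f : R) ⊓ D (g : R) ≤ D ((f : R) * (g : R)) := (PrimeSpectrum.basicOpen_mul _ _).ge
      refine smul_cancel F hfg (e + k) ?_
      have e1 := congr(rs F (inf_le_left : D (f : R) ⊓ D (g : R) ≤ _) $(hs f))
      have e2 := congr(rs F (inf_le_right : D (f : R) ⊓ D (g : R) ≤ _) $(hs g))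
      rw [map_smul, rs_rs] at e1 e2
      have e3 := congr(rs F (inf_le_left.trans le_top : D (f : R) ⊓ D (g : R) ≤ ⊤) $he)
      rw [map_smul, map_sub, map_smul, map_smul, map_zero, ← e1, ← e2, ← mul_smul, ← mul_smul, ← mul_pow, ← mul_pow,
        mul_comm (g : R), ← smul_sub, ← mul_smul, ← pow_add, smul_sub, sub_eq_zero] at e3
      exact e3
    obtain ⟨z, rfl⟩ := hb.2 t
    refine ⟨z, fun f => exists_pow_smul_zero F _ ?_⟩
    rw [map_sub, map_smul, ← hs f, ← ht f, rs_rs, sub_self]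

theorem bijective_of_isSecMod [Coh.IsQCoh F] (h : IsSecMod T Γ(F, ⊤)) :
    Function.Bijective (rs F (le_top : W ≤ ⊤)) := by
  classical
  constructor
  · intro a b hab
    refine sub_eq_zero.mp (h.sep _ fun f hf => exists_pow_smul_zero F _ ?_)
    have := congr(rs F (le_of_mem hW ⟨f, hf⟩) $hab)
    rw [rs_rs, rs_rs] at this
    rw [map_sub, sub_eq_zero]
    exact this
  · intro s
    choose k y hy using fun f : T => exists_pow_smul_eq F (rs F (le_of_mem hW f) s)
    let K := Finset.univ.sup k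
    have hy' : ∀ f : T, rs F le_top ((f : R) ^ (K - k f) • y f) = (f : R) ^ K • rs F (le_of_mem hW f) s := fun f => by
      rw [map_smul, hy, ← mul_smul, ← pow_add, Nat.sub_add_cancel (Finset.le_sup (f := k) (Finset.mem_univ f))]
    obtain ⟨z, hz⟩ := h.glue K (fun f => (f : R) ^ (K - k f) • y f) fun f g => by
      refine exists_pow_smul_zero F _ ?_
      have hl : D ((f : R) * (g : R)) ≤ D (f : R) := PrimeSpectrum.basicOpen_mul_le_left _ _
      have hr : D ((f : R) * (g : R)) ≤ D (g : R) := PrimeSpectrum.basicOpen_mul_le_right _ _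
      have e1 := congr(rs F hl $(hy' f))
      have e2 := congr(rs F hr $(hy' g))
      rw [rs_rs, map_smul (rs F hl), rs_rs] at e1
      rw [rs_rs, map_smul (rs F hr), rs_rs] at e2
      rw [map_sub, sub_eq_zero, map_smul _ ((g : R) ^ K), map_smul _ ((f : R) ^ K), e1, e2, smul_comm]
    refine ⟨z, eq_of_res F hW fun f => ?_⟩
    obtain ⟨e, he⟩ := hz f
    have e1 := congr(rs F (le_top : D (f : R) ≤ ⊤) $he)
    rw [map_smul, map_sub, hy', map_smul, map_zero] at e1
    rw [rs_rs]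
    refine smul_cancel F le_rfl K (sub_eq_zero.mp (smul_cancel F le_rfl e ?_))
    rw [e1, smul_zero]

end

theorem exists_isGen [Coh.IsQCoh F] {T : Finset R}
    (hfin : ∀ f : T, Module.Finite Γ(Spec R, D (f : R)) Γ(F, D (f : R))) :
    ∃ G : Submodule R Γ(F, ⊤), G.FG ∧ IsGen T G := by
  classical
  choose s hs using fun f : T => (hfin f).fg_top
  choose k y hy using fun (f : T) (x : s f) => exists_pow_smul_eq F x.1
  let G : Submodule R Γ(F, ⊤) := ⨆ f : T, Submodule.span R (Set.range (y f))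
  refine ⟨G, Submodule.fg_iSup _ fun f => Submodule.fg_span (Set.finite_range _), fun x f hf => ?_⟩
  let f' : T := ⟨f, hf⟩
  have key : ∀ w : Γ(F, D f), w ∈ Submodule.span Γ(Spec R, D f) (s f' : Set Γ(F, D f)) →
      ∃ (j : ℕ) (g : Γ(F, ⊤)), g ∈ G ∧ rs F le_top g = f ^ j • w := by
    intro w hw
    induction hw using Submodule.span_induction with
    | mem w hw => exact ⟨k f' ⟨w, hw⟩, y f' ⟨w, hw⟩,
        Submodule.mem_iSup_of_mem f' (Submodule.subset_span ⟨_, rfl⟩), hy f' ⟨w, hw⟩⟩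
    | zero => exact ⟨0, 0, zero_mem _, by simp⟩
    | add a b _ _ ha hb =>
      obtain ⟨i, ga, hga, ea⟩ := ha
      obtain ⟨j, gb, hgb, eb⟩ := hb
      refine ⟨i + j, f ^ j • ga + f ^ i • gb, add_mem (G.smul_mem _ hga) (G.smul_mem _ hgb), ?_⟩
      rw [map_add, map_smul, map_smul, ea, eb, ← mul_smul, ← mul_smul, ← pow_add, ← pow_add, add_comm j, smul_add]
    | smul c a _ ha =>
      obtain ⟨i, ga, hga, ea⟩ := ha
      obtain ⟨⟨r, _, l, rfl⟩, hr⟩ := IsLocalization.surj (Submonoid.powers f) c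
      refine ⟨l + i, r • ga, G.smul_mem _ hga, ?_⟩
      rw [map_smul, ea, smul_comm, pow_add, mul_smul, smul_comm (f ^ l)]
      refine congrArg (f ^ i • ·) ?_
      rw [← algebraMap_smul Γ(Spec R, D f) r a, ← algebraMap_smul Γ(Spec R, D f) (f ^ l) (c • a), ← mul_smul]
      exact congrArg (· • a) (hr.symm.trans (mul_comm _ _))
  obtain ⟨j, g, hg, e⟩ := key (rs F le_top x) (hs f' ▸ Submodule.mem_top)
  have h0 : rs F (le_top : D f ≤ ⊤) (f ^ j • x - g) = 0 := by rw [map_sub, map_smul, e, sub_self]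
  obtain ⟨i, hi⟩ := exists_pow_smul_zero F _ h0
  refine ⟨i + j, ?_⟩
  rw [smul_sub, sub_eq_zero, ← mul_smul, ← pow_add] at hi
  rw [hi]
  exact G.smul_mem _ hg

end ZarPairLib
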