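import Groth.Agent.ZarPairLib.Descend
import Groth.Agent.ZarPairLib.SecSheaf
import Groth.Agent.KFlatLib.AffinePull
import Groth.Agent.KFlatLib.QCohPull

/-!
# Global sections of inverse images along `Spec`, and determined modules
-/

set_option autoImplicit false
universe u

open CategoryTheory AlgebraicGeometry TopologicalSpace Opposite TensorProduct

noncomputable section

namespace ZarPairLib

theorem IsSecMod.of_addEquiv {A A' : Type u} [CommRing A] [CommRing A'] [DecidableEq A'] [Algebra A A'] {T : Finset A}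
    {M M' : Type u} [AddCommGroup M] [Module A M] [AddCommGroup M'] [Module A' M'] (e : M ≃+ M')
    (he : ∀ (a : A) (x : M), e (a • x) = algebraMap A A' a • e x) (h : IsSecMod T M) :
    IsSecMod (T.image (algebraMap A A')) M' := by
  have he' : ∀ (a : A) (x : M'), e.symm (algebraMap A A' a • x) = a • e.symm x := fun a x => by
    rw [AddEquiv.symm_apply_eq, he, AddEquiv.apply_symm_apply]
  constructor
  · intro x hx
    rw [← e.apply_symm_apply x, h.sep (e.symm x) fun f hf => ?_, map_zero]
    obtain ⟨k, hk⟩ := hx _ (Finset.mem_image_of_mem _ hf)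
    exact ⟨k, by rw [← he', map_pow, hk, map_zero]⟩
  · intro k y hy
    let ι : T → T.image (algebraMap A A') := fun f => ⟨_, Finset.mem_image_of_mem _ f.2⟩
    obtain ⟨z, hz⟩ := h.glue k (fun f => e.symm (y (ι f))) fun f g => by
      obtain ⟨j, hj⟩ := hy (ι f) (ι g)
      exact ⟨j, by
        rw [← he', ← he', ← map_sub, ← he', map_pow, map_pow, map_pow, map_mul]
        exact (congrArg e.symm hj).trans (map_zero _)⟩
    refine ⟨e z, fun f => ?_⟩
    obtain ⟨a, ha, hfa⟩ := Finset.mem_image.mp f.2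
    obtain ⟨j, hj⟩ := hz ⟨a, ha⟩
    refine ⟨j, ?_⟩
    have hfi : ι ⟨a, ha⟩ = f := Subtype.ext hfa
    rw [hfi] at hj
    rw [← hfa, ← map_pow, ← map_pow, ← he, ← e.apply_symm_apply (y f), ← map_sub, ← he, hj, map_zero]


variable {R R' : CommRingCat.{u}} (φ : R ⟶ R')

/-- Global sections of the inverse image along `Spec φ` are the extension of scalars. -/
theorem exists_equiv_pb (F : (Spec R).Modules) [Coh.IsQCoh F] :
    letI := φ.hom.toAlgebra
    Nonempty (R' ⊗[R] Γ(F, ⊤) ≃ₗ[R'] Γ(KFlatLib.pb (Spec.map φ) F, (⊤ : (Spec R').Opens))) := by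
  letI := φ.hom.toAlgebra
  let g := Spec.map φ
  let P := KFlatLib.pb g F
  let S := Γ(Spec R, (⊤ : (Spec R).Opens))
  let S' := Γ(Spec R', (⊤ : (Spec R').Opens))
  have hR : ∀ (Q : CommRingCat.{u}) (r : Q) (G : (Spec Q).Modules) (x : Γ(G, (⊤ : (Spec Q).Opens))),
      r • x = (Scheme.ΓSpecIso Q).inv r • x := fun Q r G x => by
    rw [Scheme.Modules.smul_Spec_def]
    congr 1
  letI : Algebra S S' := (g.appLE ⊤ ⊤ le_top).hom.toAlgebra
  letI : Module S Γ(P, (⊤ : (Spec R').Opens)) := Module.compHom _ (algebraMap S S')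
  haveI : IsScalarTower S S' Γ(P, (⊤ : (Spec R').Opens)) := IsScalarTower.of_algebraMap_smul fun _ _ => rfl
  let ψS : Γ(F, (⊤ : (Spec R).Opens)) →ₗ[S] Γ(P, (⊤ : (Spec R').Opens)) :=
    { toFun := KFlatLib.puSecLE g F le_top
      map_add' := map_add _
      map_smul' := fun r x => KFlatLib.puSecLE_smul g F le_top r x }
  have hS : IsBaseChange S' ψS :=
    KFlatLib.isBaseChange_puSec g F (isAffineOpen_top _) (isAffineOpen_top _) le_top (fun _ => rfl) ψS fun _ => rfl
  have hsq : ∀ r : R, algebraMap S S' ((Scheme.ΓSpecIso R).inv r) = (Scheme.ΓSpecIso R').inv (φ r) := fun r => by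
    refine Eq.trans ?_ congr($(Scheme.ΓSpecIso_inv_naturality φ) r).symm
    exact congr($(Scheme.Hom.app_eq_appLE g (U := ⊤)) ((Scheme.ΓSpecIso R).inv r)).symm
  letI : Module R Γ(P, (⊤ : (Spec R').Opens)) := Module.compHom _ φ.hom
  haveI : IsScalarTower R R' Γ(P, (⊤ : (Spec R').Opens)) := IsScalarTower.of_algebraMap_smul fun _ _ => rfl
  let ψ : Γ(F, (⊤ : (Spec R).Opens)) →ₗ[R] Γ(P, (⊤ : (Spec R').Opens)) :=
    { toFun := ψS
      map_add' := map_add _
      map_smul' := fun r x => by
        rw [hR, map_smul, ← algebraMap_smul S', hsq]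
        exact (hR R' (φ r) P (ψS x)).symm }
  let L := ψ.liftBaseChange R'
  let τ : R' ⊗[R] Γ(F, (⊤ : (Spec R).Opens)) →+ S' ⊗[S] Γ(F, (⊤ : (Spec R).Opens)) :=
    TensorProduct.liftAddHom
      (AddMonoidHom.mk' (fun s => AddMonoidHom.mk' (fun x => (Scheme.ΓSpecIso R').inv s ⊗ₜ x)
        fun a b => tmul_add _ a b) fun a b => AddMonoidHom.ext fun x => by
          simp [add_tmul])
      fun r s x => by
        show (Scheme.ΓSpecIso R').inv (r • s) ⊗ₜ[S] x = (Scheme.ΓSpecIso R').inv s ⊗ₜ[S] (r • x)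
        refine Eq.symm ?_
        rw [hR, tmul_smul, smul_tmul', Algebra.smul_def, Algebra.smul_def, map_mul, hsq]
        rfl
  let τ' : S' ⊗[S] Γ(F, (⊤ : (Spec R).Opens)) →+ R' ⊗[R] Γ(F, (⊤ : (Spec R).Opens)) :=
    TensorProduct.liftAddHom
      (AddMonoidHom.mk' (fun s => AddMonoidHom.mk' (fun x => (Scheme.ΓSpecIso R').hom s ⊗ₜ x)
        fun a b => tmul_add _ a b) fun a b => AddMonoidHom.ext fun x => by
          simp [add_tmul])
      fun r s x => by
        obtain ⟨r, rfl⟩ := (ConcreteCategory.bijective_of_isIso (Scheme.ΓSpecIso R).inv).2 r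
        show (Scheme.ΓSpecIso R').hom ((Scheme.ΓSpecIso R).inv r • s) ⊗ₜ[R] x =
          (Scheme.ΓSpecIso R').hom s ⊗ₜ[R] ((Scheme.ΓSpecIso R).inv r • x)
        refine Eq.symm ?_
        rw [← hR, tmul_smul, smul_tmul', Algebra.smul_def, Algebra.smul_def, map_mul, hsq, Iso.inv_hom_id_apply]
        rfl
  have hL : ∀ z, L z = hS.equiv (τ z) := fun z => by
    induction z using TensorProduct.induction_on with
    | zero => simp
    | tmul s x =>
      simp only [τ, TensorProduct.liftAddHom_tmul, AddMonoidHom.mk'_apply]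
      rw [LinearMap.liftBaseChange_tmul, IsBaseChange.equiv_tmul]
      exact hR R' s P (ψS x)
    | add a b ha hb => rw [map_add, map_add, map_add, ha, hb]
  have hτ : Function.Bijective τ := by
    refine Function.bijective_iff_has_inverse.mpr ⟨τ', fun z => ?_, fun z => ?_⟩
    · induction z using TensorProduct.induction_on with
      | zero => simp
      | tmul s x => simp [τ, τ']
      | add a b ha hb => rw [map_add, map_add, ha, hb]
    · induction z using TensorProduct.induction_on with
      | zero => simp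
      | tmul s x => simp [τ, τ']
      | add a b ha hb => rw [map_add, map_add, ha, hb]
  exact ⟨LinearEquiv.ofBijective L ((funext hL : ⇑L = hS.equiv ∘ τ) ▸ hS.equiv.bijective.comp hτ)⟩

theorem bijective_map_eq {X : Scheme.{u}} (F : X.Modules) {U V : X.Opens} (e : U = V) (h : U ≤ V) :
    Function.Bijective (F.presheaf.map (homOfLE h).op) := by
  subst e
  rw [show (homOfLE h).op = 𝟙 _ from Subsingleton.elim _ _, CategoryTheory.Functor.map_id]
  exact Function.bijective_id

/-- A quasi-coherent module determined over `W` is `W.ι_* W.ι^*` of itself on global sections. -/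
theorem isIso_Γ_unit (F : (Spec R).Modules) (W : (Spec R).Opens)
    (hb : Function.Bijective (rs F (le_top : W ≤ ⊤))) :
    IsIso (moduleSpecΓFunctor.map ((Scheme.Modules.restrictAdjunction W.ι).unit.app F)) := by
  rw [ConcreteCategory.isIso_iff_bijective]
  have e : W.ι ''ᵁ (W.ι ⁻¹ᵁ ⊤) = W := by
    rw [Scheme.Hom.preimage_top, Scheme.Hom.image_top_eq_opensRange, Scheme.Opens.opensRange_ι]
  show Function.Bijective (((Scheme.Modules.restrictAdjunction W.ι).unit.app F).app ⊤)
  rw [Scheme.Modules.restrictAdjunction_unit_app_app]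
  have key : ∀ (V : (Spec R).Opens) (h : V ≤ ⊤), V = W → Function.Bijective (F.presheaf.map (homOfLE h).op) := by
    rintro V h rfl
    exact hb
  exact key _ _ e

end ZarPairLib
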